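import Mathlib

/-! Joint eigenspaces of abelian subgroups in a representation, and two counting lemmas. -/

set_option autoImplicit false
set_option linter.unusedSectionVars false

namespace Cfsg.Lib.RepEigen

open Finset

variable {G M : Type*} [Group G] [AddCommGroup M] [Module ℂ M] (φ : G →* Module.End ℂ M)

/-- The joint eigenspace of `f` for the character `χ`. -/
def eig {A : Type*} [AddCommGroup A] (f : A → G) (χ : AddChar A ℂ) : Submodule ℂ M :=
  ⨅ a, LinearMap.ker (φ (f a) - χ a • (1 : Module.End ℂ M))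

theorem mem_eig {A : Type*} [AddCommGroup A] {f : A → G} {χ : AddChar A ℂ} {x : M} :
    x ∈ eig φ f χ ↔ ∀ a, φ (f a) x = χ a • x := by
  simp [eig, Submodule.mem_iInf, sub_eq_zero]

section Proj

variable {A : Type*} [AddCommGroup A] [Fintype A] (f : A → G)

/-- The eigenprojection. -/
noncomputable def proj (χ : AddChar A ℂ) : Module.End ℂ M :=
  (Fintype.card A : ℂ)⁻¹ • ∑ a, χ (-a) • φ (f a)

variable {f} (hf : ∀ a b, f (a + b) = f a * f b)

include hf

theorem proj_mem_eig (χ : AddChar A ℂ) (x : M) : proj φ f χ x ∈ eig φ f χ := by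
  rw [mem_eig]
  intro a
  simp only [proj, LinearMap.smul_apply, LinearMap.sum_apply, map_smul, map_sum]
  rw [smul_comm (χ a)]
  congr 1
  rw [Finset.smul_sum]
  refine Fintype.sum_equiv (Equiv.addLeft a) _ _ fun b => ?_
  rw [Equiv.coe_addLeft, hf, map_mul, Module.End.mul_apply, smul_smul, neg_add,
    AddChar.map_add_eq_mul, ← mul_assoc, ← AddChar.map_add_eq_mul, add_neg_cancel,
    AddChar.map_zero_eq_one, one_mul]

theorem proj_apply_eig {χ ψ : AddChar A ℂ} [Decidable (χ = ψ)] {x : M} (hx : x ∈ eig φ f ψ) :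
    proj φ f χ x = if χ = ψ then x else 0 := by
  classical
  rw [mem_eig] at hx
  simp only [proj, LinearMap.smul_apply, LinearMap.sum_apply, hx, smul_smul, ← Finset.sum_smul]
  have e : ∀ a, χ (-a) * ψ a = (χ⁻¹ * ψ) a := fun a => by rw [AddChar.mul_apply, AddChar.inv_apply]
  simp only [e, AddChar.sum_eq_ite]
  by_cases h : χ = ψ
  · subst h
    rw [if_pos rfl, if_pos (by rw [inv_mul_cancel]; rfl),
      inv_mul_cancel₀ (Nat.cast_ne_zero.mpr Fintype.card_ne_zero), one_smul]
  · rw [if_neg h, if_neg (fun h' : χ⁻¹ * ψ = 0 => h (inv_mul_eq_one.mp h')), mul_zero, zero_smul]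

omit hf in
theorem sum_proj_apply (h0 : f 0 = 1) (x : M) : ∑ χ : AddChar A ℂ, proj φ f χ x = x := by
  classical
  simp only [proj, LinearMap.smul_apply, LinearMap.sum_apply, ← Finset.smul_sum]
  rw [Finset.sum_comm]
  simp only [← Finset.sum_smul, AddChar.sum_apply_eq_ite, neg_eq_zero, ite_smul, zero_smul,
    Finset.sum_ite_eq', Finset.mem_univ, if_true, h0, map_one, Module.End.one_apply, smul_smul]
  rw [inv_mul_cancel₀ (Nat.cast_ne_zero.mpr Fintype.card_ne_zero), one_smul]

omit hf in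
theorem proj_mem (X : Submodule ℂ M) (hX : ∀ a, ∀ x ∈ X, φ (f a) x ∈ X) (χ : AddChar A ℂ) {x : M}
    (hx : x ∈ X) : proj φ f χ x ∈ X := by
  simp only [proj, LinearMap.smul_apply, LinearMap.sum_apply]
  exact X.smul_mem _ (X.sum_mem fun a _ => X.smul_mem _ (hX a x hx))

theorem sum_finrank_eig_le [FiniteDimensional ℂ M] (X : Submodule ℂ M) :
    ∑ χ : AddChar A ℂ, Module.finrank ℂ ↥(X ⊓ eig φ f χ) ≤ Module.finrank ℂ X := by
  classical
  let T : (Π χ : AddChar A ℂ, ↥(X ⊓ eig φ f χ)) →ₗ[ℂ] X :=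
    ∑ χ, (Submodule.inclusion inf_le_left).comp (LinearMap.proj χ)
  have hT : ∀ p, (T p : M) = ∑ χ, (p χ : M) := fun p => by simp [T]
  have hinj : Function.Injective T := by
    intro p p' h
    funext χ
    refine Subtype.ext ?_
    have h' := congrArg (fun y : X => proj φ f χ (y : M)) h
    simp only [hT, map_sum, proj_apply_eig φ hf ((Submodule.mem_inf.mp (p _).2).2),
      proj_apply_eig φ hf ((Submodule.mem_inf.mp (p' _).2).2), Finset.sum_ite_eq, Finset.mem_univ,
      if_true] at h'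
    exact h'
  rw [← Module.finrank_pi_fintype ℂ]
  exact LinearMap.finrank_le_finrank_of_injective hinj

/-- A vector moved by `f` has a component in a non-trivial eigenspace. -/
theorem exists_eig_ne_one (X : Submodule ℂ M) (hX : ∀ a, ∀ x ∈ X, φ (f a) x ∈ X) {a₀ : A} {x : M}
    (hx : x ∈ X) (h : φ (f a₀) x ≠ x) :
    ∃ χ : AddChar A ℂ, χ ≠ 1 ∧ X ⊓ eig φ f χ ≠ ⊥ := by
  classical
  by_contra hc
  push Not at hc
  have h0 : f 0 = 1 := by
    have := hf 0 0
    rw [add_zero] at this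
    exact left_eq_mul.mp this
  apply h
  have e : x = proj φ f 1 x := by
    conv_lhs => rw [← sum_proj_apply φ h0 x]
    refine Finset.sum_eq_single _ (fun χ _ hχ => ?_) (fun h => absurd (Finset.mem_univ _) h)
    exact (Submodule.mem_bot ℂ).mp ((hc χ hχ) ▸
      Submodule.mem_inf.mpr ⟨proj_mem φ X hX χ hx, proj_mem_eig φ hf χ x⟩)
  rw [e, (mem_eig φ).mp (proj_mem_eig φ hf 1 x) a₀, AddChar.one_apply, one_smul]

/-- Some eigenspace is non-trivial. -/
theorem exists_eig (X : Submodule ℂ M) (hX : ∀ a, ∀ x ∈ X, φ (f a) x ∈ X) (hne : X ≠ ⊥) :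
    ∃ χ : AddChar A ℂ, X ⊓ eig φ f χ ≠ ⊥ := by
  classical
  by_contra hc
  push Not at hc
  have h0 : f 0 = 1 := by
    have := hf 0 0
    rw [add_zero] at this
    exact left_eq_mul.mp this
  refine hne ((Submodule.eq_bot_iff X).mpr fun x hx => ?_)
  rw [← sum_proj_apply φ h0 x]
  exact Finset.sum_eq_zero fun χ _ => (Submodule.mem_bot ℂ).mp ((hc χ) ▸
    Submodule.mem_inf.mpr ⟨proj_mem φ X hX χ hx, proj_mem_eig φ hf χ x⟩)

end Proj

/-- Elements with non-trivial scalar commutators are linearly independent, so at most `d ^ 2` of them. -/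
theorem card_le_sq {C Y : Type*} [Group C] [AddCommGroup Y] [Module ℂ Y] [FiniteDimensional ℂ Y]
    [Nontrivial Y] (ψ : C →* Module.End ℂ Y) {ι : Type*} [Fintype ι] (P : ι → C)
    (h : ∀ i j, i ≠ j → ∃ g z : C, g * ((P j)⁻¹ * P i) = (P j)⁻¹ * P i * g * z ∧
      ∃ μ : ℂ, μ ≠ 1 ∧ ψ z = μ • (1 : Module.End ℂ Y)) :
    Fintype.card ι ≤ Module.finrank ℂ Y ^ 2 := by
  classical
  have htr : ∀ i j, i ≠ j → LinearMap.trace ℂ Y (ψ ((P j)⁻¹ * P i)) = 0 := by
    intro i j hij
    obtain ⟨g, z, he, μ, hμ, hz⟩ := h i j hij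
    set m := (P j)⁻¹ * P i
    have h1 : ψ g * ψ m = μ • (ψ m * ψ g) := by
      rw [← map_mul, he, map_mul, hz, mul_smul_comm, mul_one, map_mul]
    have h2 : LinearMap.trace ℂ Y (ψ m) = μ * LinearMap.trace ℂ Y (ψ m) := by
      conv_lhs => rw [show ψ m = ψ g⁻¹ * (ψ g * ψ m) by
        rw [← mul_assoc, ← map_mul, inv_mul_cancel, map_one, one_mul]]
      rw [h1, mul_smul_comm, map_smul, LinearMap.trace_mul_comm, mul_assoc, ← map_mul ψ g g⁻¹,
        mul_inv_cancel, map_one, mul_one, smul_eq_mul]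
    by_contra h0
    exact hμ (mul_right_cancel₀ h0 (by rw [one_mul]; exact h2.symm))
  have hli : LinearIndependent ℂ fun i => ψ (P i) := by
    rw [Fintype.linearIndependent_iff]
    intro c hc j
    have e := congrArg (fun T => LinearMap.trace ℂ Y (ψ (P j)⁻¹ * T)) hc
    simp only [Finset.mul_sum, mul_smul_comm, ← map_mul ψ, mul_zero, map_zero, map_sum, map_smul,
      smul_eq_mul] at e
    rw [Finset.sum_eq_single j (fun i _ hi => by rw [htr i j hi, mul_zero])
      (fun h => absurd (Finset.mem_univ _) h), inv_mul_cancel, map_one, LinearMap.trace_one] at e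
    exact (mul_eq_zero.mp e).resolve_right (Nat.cast_ne_zero.mpr Module.finrank_pos.ne')
  have := hli.fintype_card_le_finrank
  rwa [Module.finrank_linearMap, ← sq] at this

end Cfsg.Lib.RepEigen
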