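import Mathlib
import Cfsg.Agent.Classical.Unitary.Root
import Cfsg.Agent.Known.SUMinDegree.Chars

/-! Characters of the skew elements, root subgroups as maps, torus elements. -/

set_option autoImplicit false
set_option linter.unusedSectionVars false

open Cfsg.Lib.Classical Cfsg.Lib.RepEigen

namespace Cfsg.Lib.SUMinDeg

universe u v

variable {F : Type u} [Field F] {V : Type v} [AddCommGroup V] [Module F V] (H : HermSpace F V)

/-- The skew elements of `F`. -/
def skew : AddSubgroup F where
  carrier := {c | c + H.σ c = 0}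
  add_mem' {a b} (ha : a + H.σ a = 0) (hb : b + H.σ b = 0) := by
    change a + b + H.σ (a + b) = 0
    rw [map_add]; linear_combination ha + hb
  zero_mem' := by
    change (0 : F) + H.σ 0 = 0
    rw [map_zero, add_zero]
  neg_mem' {a} (ha : a + H.σ a = 0) := by
    change -a + H.σ (-a) = 0
    rw [map_neg]; linear_combination -ha

theorem skew_spec (c : skew H) : (c : F) + H.σ c = 0 := c.2

theorem card_skew : Nat.card (skew H) = H.q := by
  obtain ⟨δ, hδ0, hδ⟩ := H.conj.exists_skew
  have h1 : ∀ a : fixedField H.σ, (a : F) * δ ∈ skew H := fun a => by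
    change (a : F) * δ + H.σ ((a : F) * δ) = 0
    rw [map_mul, mem_fixedField.mp a.2, ← mul_add, hδ, mul_zero]
  have h2 : ∀ c : skew H, (c : F) / δ ∈ fixedField H.σ := fun c => by
    rw [mem_fixedField, map_div₀, eq_neg_of_add_eq_zero_right (skew_spec H c),
      eq_neg_of_add_eq_zero_right hδ, neg_div_neg_eq]
  let e : fixedField H.σ ≃ skew H :=
    { toFun := fun a => ⟨(a : F) * δ, h1 a⟩
      invFun := fun c => ⟨(c : F) / δ, h2 c⟩
      left_inv := fun a => Subtype.ext (mul_div_cancel_right₀ _ hδ0)
      right_inv := fun c => Subtype.ext (div_mul_cancel₀ _ hδ0) }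
  exact (Nat.card_congr e).symm

/-- Multiplication of the skew elements by a fixed element. -/
def scale {t : F} (ht : H.σ t = t) : skew H →+ skew H where
  toFun c := ⟨t * c, by
    change t * (c : F) + H.σ (t * c) = 0
    rw [map_mul, ht, ← mul_add, skew_spec H c, mul_zero]⟩
  map_zero' := Subtype.ext (mul_zero t)
  map_add' a b := Subtype.ext (mul_add t (a : F) b)

theorem scale_coe {t : F} (ht : H.σ t = t) (c : skew H) : (scale H ht c : F) = t * c := rfl

/-- `x ↦ x - σ x`, onto the skew elements. -/
def toSkew : F →+ skew H where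
  toFun x := ⟨x - H.σ x, by
    change x - H.σ x + H.σ (x - H.σ x) = 0
    rw [map_sub, H.conj.invol]; ring⟩
  map_zero' := Subtype.ext (by simp)
  map_add' a b := Subtype.ext (by simp only [map_add, AddSubgroup.coe_add]; ring)

theorem toSkew_coe (x : F) : (toSkew H x : F) = x - H.σ x := rfl

theorem toSkew_surjective : Function.Surjective (toSkew H) := fun c => by
  obtain ⟨θ, hθ⟩ := H.conj.exists_trace_one
  refine ⟨(c : F) * θ, Subtype.ext ?_⟩
  rw [toSkew_coe, map_mul, eq_neg_of_add_eq_zero_right (skew_spec H c)]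
  linear_combination (c : F) * hθ

/-- Every character of the skew elements is a scaled copy of a given non-trivial one. -/
theorem exists_scale [Finite F] {χ : AddChar (skew H) ℂ} (hχ : χ ≠ 1) (χ' : AddChar (skew H) ℂ) :
    ∃ (t : F) (ht : H.σ t = t), χ' = χ.compAddMonoidHom (scale H ht) := by
  classical
  haveI := Fintype.ofFinite (skew H)
  haveI := Fintype.ofFinite (fixedField H.σ)
  let T : fixedField H.σ → AddChar (skew H) ℂ := fun t => χ.compAddMonoidHom (scale H (mem_fixedField.mp t.2))
  have hinj : Function.Injective T := by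
    intro a b hab
    by_contra hne
    refine hχ (DFunLike.ext _ _ fun c => ?_)
    have hd : (a : F) - b ≠ 0 := sub_ne_zero.mpr fun h => hne (Subtype.ext h)
    have hs : H.σ ((a : F) - b)⁻¹ = ((a : F) - b)⁻¹ := by
      rw [map_inv₀, map_sub, mem_fixedField.mp a.2, mem_fixedField.mp b.2]
    have e := DFunLike.congr_fun hab (scale H hs c)
    simp only [T, AddChar.compAddMonoidHom_apply] at e
    have ec : scale H (mem_fixedField.mp a.2) (scale H hs c) = scale H (mem_fixedField.mp b.2) (scale H hs c) + c := by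
      refine Subtype.ext ?_
      simp only [AddSubgroup.coe_add, scale_coe]
      field_simp
      ring
    rw [ec, AddChar.map_add_eq_mul] at e
    rw [AddChar.one_apply]
    exact (mul_eq_left₀ (AddChar.val_isUnit χ _).ne_zero).mp e
  have hcard : Fintype.card (fixedField H.σ) = Fintype.card (AddChar (skew H) ℂ) := by
    rw [AddChar.card_eq, ← Nat.card_eq_fintype_card, ← Nat.card_eq_fintype_card, card_skew]; rfl
  obtain ⟨t, ht⟩ := ((Fintype.bijective_iff_injective_and_card T).mpr ⟨hinj, hcard⟩).2 χ'
  exact ⟨t, mem_fixedField.mp t.2, ht.symm⟩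

/-- Every character of `F` is `x ↦ χ (k x - σ (k x))`. -/
theorem exists_mul [Finite F] {χ : AddChar (skew H) ℂ} (hχ : χ ≠ 1) (ψ : AddChar F ℂ) :
    ∃ k : F, ∀ x, ψ x = χ (toSkew H (k * x)) := by
  classical
  haveI := Fintype.ofFinite F
  let T : F → AddChar F ℂ := fun k =>
    χ.compAddMonoidHom ((toSkew H).comp (AddMonoidHom.mulLeft k))
  have hinj : Function.Injective T := by
    intro a b hab
    by_contra hne
    refine hχ (DFunLike.ext _ _ fun c => ?_)
    obtain ⟨x, rfl⟩ := toSkew_surjective H c
    have hd : a - b ≠ 0 := sub_ne_zero.mpr hne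
    have e := DFunLike.congr_fun hab (x / (a - b))
    simp only [T, AddChar.compAddMonoidHom_apply, AddMonoidHom.comp_apply, AddMonoidHom.coe_mulLeft] at e
    have ea : a * (x / (a - b)) = b * (x / (a - b)) + x := by
      field_simp
      ring
    rw [ea, map_add, AddChar.map_add_eq_mul] at e
    rw [AddChar.one_apply]
    exact (mul_eq_left₀ (AddChar.val_isUnit χ _).ne_zero).mp e
  obtain ⟨k, hk⟩ := ((Fintype.bijective_iff_injective_and_card T).mpr ⟨hinj, AddChar.card_eq.symm⟩).2 ψ
  exact ⟨k, fun x => by rw [← hk]; rfl⟩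

/-- The root subgroup of an isotropic vector, as a map. -/
noncomputable def root {v : V} (hv : H.h v v = 0) (c : skew H) : H.SIsom := H.sT hv c.2

theorem root_apply {v : V} (hv : H.h v v = 0) (c : skew H) (x : V) :
    (root H hv c).1.1 x = x + ((c : F) * H.h x v) • v := H.sT_apply hv c.2 x

theorem root_add {v : V} (hv : H.h v v = 0) (a b : skew H) :
    root H hv (a + b) = root H hv a * root H hv b :=
  H.sisom_ext fun x => by
    simp only [H.smul_mul_apply, root_apply, H.add_left, H.smul_left, hv, AddSubgroup.coe_add]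
    module

theorem root_conj (g : H.SIsom) {v w : V} (hv : H.h v v = 0) (hw : H.h w w = 0) (h : g.1.1 v = w)
    (c : skew H) : g * root H hv c * g⁻¹ = root H hw c := by
  subst h; exact H.sT_conj g hv c.2

theorem root_commute {g : H.SIsom} {v : V} (hv : H.h v v = 0) (h : g.1.1 v = v) (c : skew H) :
    Commute g (root H hv c) := mul_inv_eq_iff_eq_mul.mp (root_conj H g hv hv h c)

/-- Rescaling the vector of a root subgroup. -/
theorem root_smul {v : V} (hv : H.h v v = 0) (a : F) (hav : H.h (a • v) (a • v) = 0) (c : skew H) :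
    root H hav c = root H hv (scale H (H.conj.norm_mem a) c) :=
  H.sT_smul hv a hav c.2 _

theorem root_zero_vec (h : H.h (0 : V) 0 = 0) (c : skew H) : root H h c = 1 :=
  H.sisom_ext fun x => by rw [root_apply, smul_zero, add_zero]; rfl

/-- A torus element, with its determinant. -/
theorem exists_torus [Finite F] [FiniteDimensional F V] {v u : V} (hvv : H.h v v = 0)
    (huu : H.h u u = 0) (hvu : H.h v u = 1) {a : F} (ha : a ≠ 0) :
    ∃ g : H.Isom, (H.detHom g : F) = a * (H.σ a)⁻¹ ∧ g.1 v = a • v ∧
      (∀ x, ∃ s r : F, g.1 x = x + s • v + r • u) ∧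
      ∀ x, H.h x v = 0 → H.h x u = 0 → g.1 x = x := by
  have huv : H.h u v = 1 := by rw [H.symm, hvu, map_one]
  have hσa : H.σ a ≠ 0 := (map_ne_zero _).mpr ha
  have hb0 : (H.σ a)⁻¹ ≠ 0 := inv_ne_zero hσa
  have hab : a * H.σ (H.σ a)⁻¹ = 1 := by rw [map_inv₀, H.conj.invol, mul_inv_cancel₀ ha]
  have hba : (H.σ a)⁻¹ * H.σ a = 1 := inv_mul_cancel₀ hσa
  let A := LinearEquiv.dilatransvection (f := (a - 1) • H.lin u) (v := v)
    (by simp [H.lin_apply, hvu, ha])
  let B := LinearEquiv.dilatransvection (f := ((H.σ a)⁻¹ - 1) • H.lin v) (v := u)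
    (by simp [H.lin_apply, huv, hb0])
  have happ : ∀ x, (A * B) x =
      x + ((a - 1) * H.h x u) • v + (((H.σ a)⁻¹ - 1) * H.h x v) • u := fun x => by
    simp only [A, B, LinearEquiv.mul_apply, LinearEquiv.dilatransvection.apply, LinearMap.smul_apply,
      H.lin_apply, smul_eq_mul, H.add_left, H.smul_left, huu, mul_zero, add_zero]
    module
  refine ⟨⟨A * B, fun x y => ?_⟩, ?_, ?_, fun x => ⟨_, _, happ x⟩, fun x h1 h2 => ?_⟩
  · rw [happ, happ]
    simp only [H.add_left, H.add_right, H.smul_left, H.smul_right, hvv, huu, hvu, huv, map_mul, map_sub,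
      map_one, ← H.symm v y, ← H.symm u y]
    linear_combination (H.h x u * H.h v y) * hab + (H.h x v * H.h u y) * hba
  · change ((LinearEquiv.det (A * B) : Fˣ) : F) = _
    rw [map_mul, Units.val_mul, LinearEquiv.coe_det, LinearEquiv.coe_det,
      LinearEquiv.dilatransvection.coe_toLinearMap, LinearEquiv.dilatransvection.coe_toLinearMap,
      LinearMap.transvection.det, LinearMap.transvection.det]
    simp only [LinearMap.smul_apply, H.lin_apply, hvu, huv, smul_eq_mul, mul_one, add_sub_cancel]
  · change (A * B) v = _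
    rw [happ, hvu, hvv]; module
  · change (A * B) x = _
    rw [happ, h1, h2]; module

end Cfsg.Lib.SUMinDeg
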