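import Mathlib
import Cfsg.Agent.Known.SUMinDegree.Field

/-! The steps of the induction for the minimal degree of special unitary groups. -/

set_option autoImplicit false
set_option linter.unusedSectionVars false

open Cfsg.Lib.Classical Cfsg.Lib.RepEigen

namespace Cfsg.Lib.SUMinDeg

universe u v w

variable {F : Type u} [Field F] {V : Type v} [AddCommGroup V] [Module F V]
  [Finite F] [FiniteDimensional F V] (H : HermSpace F V)
  {M : Type w} [AddCommGroup M] [Module ℂ M] [FiniteDimensional ℂ M]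
  (φ : H.SIsom →* Module.End ℂ M)

/-- The fixed points of a root subgroup inside `X`. -/
noncomputable def fix₀ {v : V} (hv : H.h v v = 0) (X : Submodule ℂ M) : Submodule ℂ M :=
  X ⊓ eig φ (root H hv) 1

theorem mem_fix₀ {v : V} {hv : H.h v v = 0} {X : Submodule ℂ M} {x : M} :
    x ∈ fix₀ H φ hv X ↔ x ∈ X ∧ ∀ c, φ (root H hv c) x = x := by
  simp [fix₀, mem_eig]

/-- The hypotheses carried through the induction. -/
structure Local (W : Submodule F V) (K : Subgroup H.SIsom) (X : Submodule ℂ M) : Prop where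
  nondeg : H.NondegOn W
  invW : ∀ g ∈ K, ∀ x ∈ W, g.1.1 x ∈ W
  full : ∀ g : H.SIsom, (∀ x ∈ H.orth W, g.1.1 x = x) → g ∈ K
  invX : ∀ g ∈ K, ∀ x ∈ X, φ g x ∈ X
  torus : ∀ v u, v ∈ W → u ∈ W → H.h v v = 0 → H.h u u = 0 → H.h v u = 1 → ∀ a : F, a ≠ 0 →
    ∃ g ∈ K, g.1.1 v = a • v

/-- No non-zero vector is fixed by all root subgroups. -/
def NoFix (W : Submodule F V) (X : Submodule ℂ M) : Prop :=
  ∀ x ∈ X, (∀ v, v ∈ W → ∀ hv : H.h v v = 0, ∀ c, φ (root H hv c) x = x) → x = 0

variable {H φ} {W : Submodule F V} {K : Subgroup H.SIsom} {X : Submodule ℂ M}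

theorem Local.root_mem (L : Local H φ W K X) {v : V} (hvW : v ∈ W) (hv : H.h v v = 0) (c : skew H) :
    root H hv c ∈ K :=
  L.full _ fun x hx => by rw [root_apply, hx v hvW, mul_zero, zero_smul, add_zero]

theorem phi_inv_apply (g : H.SIsom) (x : M) : φ g⁻¹ (φ g x) = x := by
  rw [← Module.End.mul_apply, ← map_mul, inv_mul_cancel, map_one, Module.End.one_apply]

theorem phi_conj_apply (g h : H.SIsom) (x : M) : φ (g * h * g⁻¹) (φ g x) = φ g (φ h x) := by
  rw [map_mul, map_mul, Module.End.mul_apply, Module.End.mul_apply, phi_inv_apply]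

/-- Passing to the part moved by the transvections. -/
theorem Local.exists_noFix (L : Local H φ W K X) {v : V} (hvW : v ∈ W) (hv : H.h v v = 0) {c : skew H}
    {x : M} (hx : x ∈ X) (hmove : φ (root H hv c) x ≠ x) :
    ∃ X' ≤ X, X' ≠ ⊥ ∧ Local H φ W K X' ∧ NoFix H φ W X' := by
  classical
  haveI : Finite V := Module.finite_of_finite F
  haveI : Finite (V ≃ₗ[F] V) := Finite.of_injective _ DFunLike.coe_injective
  let S : Set H.SIsom := {t | ∃ v, v ∈ W ∧ ∃ (hv : H.h v v = 0) (c : skew H), t = root H hv c}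
  let N := Subgroup.closure S
  haveI := Fintype.ofFinite N
  let Y : Submodule ℂ M := Submodule.span ℂ {z | ∃ t ∈ S, ∃ x ∈ X, z = φ t x - x}
  have hY : Y ≤ X := Submodule.span_le.mpr (by
    rintro z ⟨t, ⟨v, hvW, hv, c, rfl⟩, x, hx, rfl⟩
    exact X.sub_mem (L.invX _ (L.root_mem hvW hv c) x hx) hx)
  refine ⟨Y, hY, fun h => hmove ?_, ⟨L.nondeg, L.invW, L.full, ?_, L.torus⟩, ?_⟩
  · have : φ (root H hv c) x - x ∈ Y :=
      Submodule.subset_span ⟨_, ⟨v, hvW, hv, c, rfl⟩, x, hx, rfl⟩
    rwa [h, Submodule.mem_bot, sub_eq_zero] at this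
  · intro g hg z hz
    refine (Submodule.span_le.mpr ?_ : Y ≤ Y.comap (φ g)) hz
    rintro z ⟨t, ⟨v, hvW, hv, c, rfl⟩, x, hx, rfl⟩
    refine Submodule.subset_span ⟨root H (v := g.1.1 v) (by rw [H.map_form, hv]) c,
      ⟨_, L.invW g hg v hvW, _, c, rfl⟩, φ g x, L.invX g hg x hx, ?_⟩
    rw [← root_conj H g hv _ rfl c, phi_conj_apply, map_sub]
  · intro z hz hfix
    let e : Module.End ℂ M := ∑ n : N, φ n
    have he : e z = 0 := by
      refine (Submodule.span_le.mpr ?_ : Y ≤ LinearMap.ker e) hz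
      rintro _ ⟨t, ht, x, -, rfl⟩
      rw [SetLike.mem_coe, LinearMap.mem_ker, map_sub, sub_eq_zero]
      simp only [e, LinearMap.sum_apply]
      refine Fintype.sum_equiv (Equiv.mulRight (⟨t, Subgroup.subset_closure ht⟩ : N)) _ _ fun n => ?_
      rw [Equiv.coe_mulRight, Subgroup.coe_mul, map_mul, Module.End.mul_apply]
    have hN : ∀ n ∈ N, φ n z = z := by
      intro n hn
      induction hn using Subgroup.closure_induction with
      | mem t ht => obtain ⟨v, hvW, hv, c, rfl⟩ := ht; exact hfix v hvW hv c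
      | one => rw [map_one, Module.End.one_apply]
      | mul a b _ _ ha hb => rw [map_mul, Module.End.mul_apply, hb, ha]
      | inv a _ ha => conv_lhs => rw [← ha]
                      exact phi_inv_apply a z
    simp only [e, LinearMap.sum_apply, fun n : N => hN n n.2, Finset.sum_const, Finset.card_univ,
      ← Nat.cast_smul_eq_nsmul ℂ] at he
    exact (smul_eq_zero.mp he).resolve_left (Nat.cast_ne_zero.mpr Fintype.card_ne_zero)

/-- Every root subgroup moves some vector. -/
theorem Local.root_moves (L : Local H φ W K X) (hne : X ≠ ⊥) (hnf : NoFix H φ W X) {v : V} (hvW : v ∈ W)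
    (hv : H.h v v = 0) (hv0 : v ≠ 0) : ∃ c, ∃ x ∈ X, φ (root H hv c) x ≠ x := by
  by_contra hc
  push Not at hc
  obtain ⟨x₀, hx₀, hx₀0⟩ := Submodule.exists_mem_ne_zero_of_ne_bot hne
  refine hx₀0 (hnf x₀ hx₀ fun r hrW hr => ?_)
  let P : V → Prop := fun r => ∀ (hr : H.h r r = 0) (c : skew H), ∀ x ∈ X, φ (root H hr c) x = x
  suffices h : P r from fun c => h hr c x₀ hx₀
  have hP : P v := fun _ c x hx => hc c x hx
  have conj : ∀ (t : V) (ht : H.h t t = 0), t ∈ W → ∀ d : skew H, ∀ w, H.h w w = 0 → P w →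
      P ((root H ht d).1.1 w) := by
    intro t ht htW d w hw hPw h c x hx
    have hg := L.root_mem htW ht d
    rw [← root_conj H (root H ht d) hw h rfl c]
    obtain ⟨y, hy, rfl⟩ : ∃ y ∈ X, φ (root H ht d) y = x :=
      ⟨φ (root H ht d)⁻¹ x, L.invX _ (inv_mem hg) x hx, by
        simpa using phi_inv_apply (φ := φ) (root H ht d)⁻¹ x⟩
    rw [phi_conj_apply, hPw hw c y hy]
  have smul : ∀ w, H.h w w = 0 → P w → ∀ a : F, P (a • w) := fun w hw hPw a h c x hx => by
    rw [root_smul H hw a h c]; exact hPw hw _ x hx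
  have step : ∀ w r, w ∈ W → r ∈ W → H.h w w = 0 → H.h r r = 0 → P w → H.h w r ≠ 0 → P r := by
    intro w r hwW hrW hw hr hPw hwr
    obtain ⟨δ, hδ0, hδ⟩ := H.conj.exists_skew
    have hrw : H.h r w ≠ 0 := fun h => hwr (H.eq_zero_symm h)
    set k := δ * H.h w r with hk
    have hk0 : k ≠ 0 := mul_ne_zero hδ0 hwr
    set w₁ := (root H hr ⟨δ, hδ⟩).1.1 w with hw₁
    have e₁ : w₁ = w + k • r := root_apply H hr ⟨δ, hδ⟩ w
    have hP₁ : P w₁ := conj r hr hrW _ w hw hPw
    have hc' : -(k * H.h r w)⁻¹ + H.σ (-(k * H.h r w)⁻¹) = 0 := by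
      rw [map_neg, map_inv₀, hk, map_mul, map_mul, eq_neg_of_add_eq_zero_right hδ, ← H.symm r w,
        ← H.symm w r, neg_mul, neg_mul, inv_neg, neg_neg,
        show δ * H.h r w * H.h w r = δ * H.h w r * H.h r w by ring, neg_add_cancel]
    have e₂ : (root H hw ⟨_, hc'⟩).1.1 w₁ = k • r := by
      rw [root_apply, e₁, H.add_left, H.smul_left, hw, zero_add, neg_mul,
        inv_mul_cancel₀ (mul_ne_zero hk0 hrw)]
      module
    have hP₂ : P (k • r) := e₂ ▸ conj w hw hwW _ w₁ (by rw [hw₁, H.map_form, hw]) hP₁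
    have := smul _ (by rw [H.smul_left, H.smul_right, hr, mul_zero, mul_zero]) hP₂ k⁻¹
    rwa [smul_smul, inv_mul_cancel₀ hk0, one_smul] at this
  rcases eq_or_ne r 0 with rfl | hr0
  · intro h c x hx; rw [root_zero_vec, map_one, Module.End.one_apply]
  obtain ⟨s, hs, hvs, hrs⟩ := (H.restrict W L.nondeg).exists_isotropic_nonorth
    (p := ⟨v, hvW⟩) (s := ⟨r, hrW⟩) (fun e => hv0 (congrArg Subtype.val e))
    (fun e => hr0 (congrArg Subtype.val e)) hv hr
  exact step s r s.2 hrW hs hr (step v s hvW s.2 hv hs hP hvs) fun h => hrs (H.eq_zero_symm h)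

omit [FiniteDimensional ℂ M] in
theorem orth_inter_pair (hW : H.NondegOn W) {v u : V} (hvW : v ∈ W) (huW : u ∈ W) (hv : H.h v v = 0)
    (hvu : H.h v u = 1) :
    H.NondegOn (W ⊓ H.orth (Submodule.span F {v, u})) ∧
      Module.finrank F ↥(W ⊓ H.orth (Submodule.span F ({v, u} : Set V))) + 2 = Module.finrank F W := by
  set P := Submodule.span F ({v, u} : Set V) with hP
  have hPn := H.nondegOn_hyperbolic hv hvu
  have hPW : P ≤ W := Submodule.span_le.mpr (by
    rintro x (rfl | rfl) <;> assumption)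
  have hc := H.isCompl_orth hPn
  have hsup : P ⊔ W ⊓ H.orth P = W := by
    rw [inf_comm, ← sup_inf_assoc_of_le _ hPW, hc.sup_eq_top, top_inf_eq]
  refine ⟨fun x hx hxo => hW x hx.1 fun y hy => ?_, ?_⟩
  · rw [← hsup] at hy
    obtain ⟨p, hp, z, hz, rfl⟩ := Submodule.mem_sup.mp hy
    rw [H.add_left, H.eq_zero_symm (hx.2 p hp), hxo z hz, add_zero]
  · have h := Submodule.finrank_sup_add_finrank_inf_eq P (W ⊓ H.orth P)
    rw [hsup, show P ⊓ (W ⊓ H.orth P) = ⊥ from eq_bot_iff.mpr fun x hx =>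
      hc.disjoint.eq_bot ▸ (⟨hx.1, hx.2.2⟩ : x ∈ P ⊓ H.orth P), finrank_bot,
      H.finrank_hyperbolic hv hvu] at h
    omega

/-- The degree is at least `(q - 1) q ^ (m - 2)` plus the fixed points of one root subgroup. -/
theorem Local.step_bound (L : Local H φ W K X) (hne : X ≠ ⊥) (hnf : NoFix H φ W X) {v u : V}
    (hvW : v ∈ W) (huW : u ∈ W) (hv : H.h v v = 0) (hu : H.h u u = 0) (hvu : H.h v u = 1) :
    (H.q - 1) * H.q ^ (Module.finrank F W - 2) + Module.finrank ℂ (fix₀ H φ hv X) ≤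
      Module.finrank ℂ X := by
  classical
  haveI := Fintype.ofFinite (skew H)
  haveI : Finite V := Module.finite_of_finite F
  have hv0 : v ≠ 0 := fun e => by rw [e, H.zero_left] at hvu; exact zero_ne_one hvu
  have hf := root_add H hv
  have hinv : ∀ c, ∀ x ∈ X, φ (root H hv c) x ∈ X := fun c => L.invX _ (L.root_mem hvW hv c)
  obtain ⟨c₀, x₀, hx₀, hmove⟩ := L.root_moves hne hnf hvW hv hv0
  obtain ⟨χ₁, hχ₁, hne₁⟩ := exists_eig_ne_one φ hf X hinv hx₀ hmove
  have heq : ∀ χ : AddChar (skew H) ℂ, χ ≠ 1 →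
      Module.finrank ℂ ↥(X ⊓ eig φ (root H hv) χ₁) ≤ Module.finrank ℂ ↥(X ⊓ eig φ (root H hv) χ) := by
    intro χ hχ
    obtain ⟨t, ht, hχ'⟩ := exists_scale H hχ χ₁
    have ht0 : t ≠ 0 := by
      rintro rfl
      refine hχ₁ (DFunLike.ext _ _ fun c => ?_)
      rw [hχ', AddChar.compAddMonoidHom_apply, show scale H ht c = 0 from Subtype.ext (zero_mul _),
        AddChar.map_zero_eq_one, AddChar.one_apply]
    obtain ⟨a, ha⟩ := H.conj.norm_surjective ht
    have ha0 : a ≠ 0 := fun h => ht0 (by rw [← ha, h, zero_mul])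
    obtain ⟨g, hg, hgv⟩ := L.torus v u hvW huW hv hu hvu a ha0
    have hmap : ∀ x ∈ X ⊓ eig φ (root H hv) χ₁, φ g x ∈ X ⊓ eig φ (root H hv) χ := by
      intro x hx
      refine ⟨L.invX g hg x hx.1, (mem_eig φ).mpr fun c => ?_⟩
      have hs : H.σ t⁻¹ = t⁻¹ := by rw [map_inv₀, ht]
      set c' := scale H hs c with hc'
      have e : root H hv c = g * root H hv c' * g⁻¹ := by
        rw [root_conj H g hv (w := a • v) (by rw [H.smul_left, H.smul_right, hv, mul_zero, mul_zero]) hgv,
          root_smul H hv a]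
        congr 1
        refine Subtype.ext ?_
        rw [scale_coe, ha, hc', scale_coe, ← mul_assoc, mul_inv_cancel₀ ht0, one_mul]
      rw [e, phi_conj_apply, (mem_eig φ).mp hx.2 c', map_smul, hχ', AddChar.compAddMonoidHom_apply]
      congr 2
      refine Subtype.ext ?_
      rw [scale_coe, hc', scale_coe, ← mul_assoc, mul_inv_cancel₀ ht0, one_mul]
    refine LinearMap.finrank_le_finrank_of_injective (f := (φ g).restrict hmap) fun x y h => ?_
    have h' := congrArg (fun z => φ g⁻¹ z) (congrArg Subtype.val h)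
    simpa [phi_inv_apply] using h'
  have hbig : H.q ^ (Module.finrank F W - 2) ≤ Module.finrank ℂ ↥(X ⊓ eig φ (root H hv) χ₁) := by
    set Y := X ⊓ eig φ (root H hv) χ₁ with hY
    set W' := W ⊓ H.orth (Submodule.span F ({v, u} : Set V)) with hW'
    obtain ⟨hW'n, hW'd⟩ := orth_inter_pair L.nondeg hvW huW hv hvu
    haveI := Fintype.ofFinite W'
    haveI : Nontrivial Y := Submodule.nontrivial_iff_ne_bot.mpr hne₁
    let C : Subgroup H.SIsom :=
      { carrier := {g | g ∈ K ∧ g.1.1 v = v}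
        one_mem' := ⟨K.one_mem, rfl⟩
        mul_mem' := fun {a b} ha hb => ⟨K.mul_mem ha.1 hb.1, by rw [H.smul_mul_apply, hb.2, ha.2]⟩
        inv_mem' := fun {a} ha => ⟨K.inv_mem ha.1, by
          conv_lhs => rw [← ha.2, ← H.smul_mul_apply, inv_mul_cancel]
          rfl⟩ }
    have hCY : ∀ g : C, ∀ x ∈ Y, φ (g : H.SIsom) x ∈ Y := fun g x hx =>
      ⟨L.invX _ g.2.1 x hx.1, (mem_eig φ).mpr fun c => by
        rw [← Module.End.mul_apply, ← map_mul, ← (root_commute H hv g.2.2 c).eq, map_mul,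
          Module.End.mul_apply, (mem_eig φ).mp hx.2 c, map_smul]⟩
    let ψ : C →* Module.End ℂ Y :=
      { toFun := fun g => (φ (g : H.SIsom)).restrict (hCY g)
        map_one' := LinearMap.ext fun x => Subtype.ext (by simp)
        map_mul' := fun a b => LinearMap.ext fun x => Subtype.ext (by simp) }
    obtain ⟨θ, hθ⟩ := H.conj.exists_trace_one
    have hwv : ∀ w : W', H.h (w : V) v = 0 := fun w => w.2.2 v (Submodule.subset_span (by simp))
    have hwa : ∀ w : W', -(θ * H.h (w : V) w) + H.σ (-(θ * H.h (w : V) w)) = -H.h (w : V) w := fun w => by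
      rw [map_neg, map_mul, H.self_fixed]
      linear_combination (-H.h (w : V) w) * hθ
    let S : W' → H.SIsom := fun w => ⟨H.siegel hv (hwv w) (hwa w), H.siegel_mem_SIsom hv (hwv w) (hwa w)⟩
    have hS : ∀ w x, (S w).1.1 x = x + H.h x v • (w : V) +
        (-(θ * H.h (w : V) w) * H.h x v - H.h x (w : V)) • v := fun w x => H.siegel_apply hv (hwv w) (hwa w) x
    have hSv : ∀ w, (S w).1.1 v = v := fun w => by
      rw [hS, hv, H.eq_zero_symm (hwv w)]; module
    have hSC : ∀ w, S w ∈ C := fun w => ⟨L.full _ fun x hx => by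
      rw [hS, hx v hvW, hx w w.2.1]; module, hSv w⟩
    let d : W' → W' → skew H := fun y w => toSkew H (H.h (y : V) w)
    have hrel : ∀ y w, S y * S w = S w * S y * root H hv (d y w) := fun y w => H.sisom_ext fun x => by
      simp only [H.smul_mul_apply, hS, root_apply, d, toSkew_coe, ← H.symm, H.add_left, H.sub_left,
        H.smul_left, hv, hwv, H.eq_zero_symm (hwv _)]
      module
    have hcard := card_le_sq ψ (fun w => (⟨S w, hSC w⟩ : C)) fun i j hij => by
      obtain ⟨y', hy'⟩ := (H.restrict W' hW'n).exists_partner (sub_ne_zero.mpr hij)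
      obtain ⟨c, hc⟩ := DFunLike.ne_iff.mp hχ₁
      obtain ⟨l, hl⟩ := toSkew_surjective H c
      set y := l • y' with hy
      have e : d y i - d y j = c := by
        rw [← hl]
        simp only [d, ← map_sub, ← H.sub_right, hy, Submodule.coe_smul, H.smul_left]
        congr 1
        rw [← mul_sub, ← H.sub_right]
        have h1 : H.h (y' : V) ((i : V) - j) = 1 := by
          rw [H.symm]; change H.σ ((H.restrict W' hW'n).h (i - j) y') = 1
          rw [hy', map_one]
        rw [h1, mul_one]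
      refine ⟨⟨S y, hSC y⟩, ⟨root H hv c, L.root_mem hvW hv c, (by rw [root_apply, hv, mul_zero, zero_smul, add_zero])⟩, ?_, χ₁ c, ?_, ?_⟩
      · refine Subtype.ext ?_
        change S y * ((S j)⁻¹ * S i) = (S j)⁻¹ * S i * S y * root H hv c
        have h2 : S y * (S j)⁻¹ = (S j)⁻¹ * S y * (root H hv (d y j))⁻¹ := by
          rw [eq_mul_inv_iff_mul_eq, mul_assoc, (root_commute H hv (hSv j) (d y j)).inv_left.eq,
            ← mul_assoc, mul_inv_eq_iff_eq_mul, mul_assoc, eq_inv_mul_iff_mul_eq, hrel, ← mul_assoc]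
        have h3 : root H hv (d y i) = root H hv (d y j) * root H hv c := by
          rw [← root_add, ← e, add_sub_cancel]
        rw [← mul_assoc, h2, mul_assoc _ _ (S i), ← ((root_commute H hv (hSv i) (d y j)).inv_right).eq,
          mul_assoc, ← mul_assoc (S y), hrel, h3]
        simp only [mul_assoc]
        congr 3
        have hc1 : Commute (root H hv (d y j)) (root H hv c) := root_commute H hv (by
          rw [root_apply, hv, mul_zero, zero_smul, add_zero]) c
        rw [← mul_assoc, hc1.eq, mul_inv_cancel_right]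
      · exact hc
      · exact LinearMap.ext fun x => Subtype.ext ((mem_eig φ).mp x.2.2 c)
    have hq : Fintype.card W' = (H.q ^ (Module.finrank F W - 2)) ^ 2 := by
      rw [← Nat.card_eq_fintype_card, Module.natCard_eq_pow_finrank (K := F), H.conj.card_eq_sq]
      change (H.q ^ 2) ^ Module.finrank F W' = _
      have hd2 : Module.finrank F W' + 2 = Module.finrank F W := hW'd
      rw [show Module.finrank F W - 2 = Module.finrank F W' by omega, ← pow_mul, ← pow_mul, mul_comm]
    rw [hq] at hcard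
    exact (Nat.pow_le_pow_iff_left two_ne_zero).mp hcard
  refine le_trans ?_ (sum_finrank_eig_le φ hf X)
  rw [← Finset.sum_erase_add _ _ (Finset.mem_univ (1 : AddChar (skew H) ℂ))]
  refine add_le_add ?_ le_rfl
  have hcard : (Finset.univ.erase (1 : AddChar (skew H) ℂ)).card = H.q - 1 := by
    rw [Finset.card_erase_of_mem (Finset.mem_univ _), Finset.card_univ, AddChar.card_eq,
      ← Nat.card_eq_fintype_card, card_skew]
  rw [← hcard, ← smul_eq_mul]
  refine Finset.card_nsmul_le_sum _ _ _ fun χ hχ => hbig.trans (heq χ (Finset.ne_of_mem_erase hχ))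

end Cfsg.Lib.SUMinDeg
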