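import Mathlib
import Cfsg.Agent.Known.SUMinDegree.Step
import Cfsg.Agent.Classical.Unitary.Matrix

/-! The minimal degree of non-trivial representations of special unitary groups. -/

set_option autoImplicit false
set_option linter.unusedSectionVars false

open Cfsg.Lib.Classical Cfsg.Lib.RepEigen

namespace Cfsg.Lib.SUMinDeg

universe u v w

/-- `(q ^ m - q) / (q + 1)` for odd `m`, `(q ^ m - 1) / (q + 1)` for even `m`. -/
def bnd (q : ℕ) : ℕ → ℕ
  | 0 => 0
  | 1 => 0
  | m + 2 => (q - 1) * q ^ m + bnd q m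

theorem bnd_spec (q : ℕ) (hq : 1 ≤ q) :
    ∀ m, (q + 1) * bnd q m + (if Even m then 1 else q) = q ^ m
  | 0 => by simp [bnd]
  | 1 => by simp [bnd]
  | m + 2 => by
    have h := bnd_spec q hq m
    have he : (Even (m + 2) ↔ Even m) := by simp [Nat.even_add]
    simp only [bnd, he]
    obtain ⟨r, rfl⟩ : ∃ r, q = r + 1 := ⟨q - 1, by omega⟩
    rw [Nat.add_sub_cancel, mul_add, add_assoc, h]
    ring

variable {F : Type u} [Field F] {V : Type v} [AddCommGroup V] [Module F V]
  [Finite F] [FiniteDimensional F V] {H : HermSpace F V}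
  {M : Type w} [AddCommGroup M] [Module ℂ M] [FiniteDimensional ℂ M]
  {φ : H.SIsom →* Module.End ℂ M} {W : Submodule F V} {K : Subgroup H.SIsom} {X : Submodule ℂ M}

/-- Restricting the stabiliser of two submodules to a subgroup. -/
def stab₂ (K : Subgroup H.SIsom) (W : Submodule F V) (Y : Submodule ℂ M) (φ : H.SIsom →* Module.End ℂ M) :
    Subgroup H.SIsom :=
  haveI : Finite V := Module.finite_of_finite F
  haveI : Finite (V ≃ₗ[F] V) := Finite.of_injective _ DFunLike.coe_injective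
  let S : Submonoid H.SIsom :=
    { carrier := {g | g ∈ K ∧ (∀ x ∈ W, g.1.1 x ∈ W) ∧ ∀ y ∈ Y, φ g y ∈ Y}
      one_mem' := ⟨K.one_mem, fun x hx => hx, fun y hy => by rw [map_one]; exact hy⟩
      mul_mem' := fun {a b} ha hb => ⟨K.mul_mem ha.1 hb.1,
        fun x hx => by rw [H.smul_mul_apply]; exact ha.2.1 _ (hb.2.1 x hx),
        fun y hy => by rw [map_mul, Module.End.mul_apply]; exact ha.2.2 _ (hb.2.2 y hy)⟩ }
  { S with
    inv_mem' := fun {g} hg => by
      have h : g ^ (Nat.card H.SIsom - 1) ∈ S := pow_mem hg _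
      have e : g ^ (Nat.card H.SIsom - 1) = g⁻¹ := by
        refine eq_inv_of_mul_eq_one_left ?_
        rw [← pow_succ, Nat.sub_add_cancel Nat.card_pos, pow_card_eq_one']
      exact e ▸ h }

theorem mem_stab₂ {Y : Submodule ℂ M} {g : H.SIsom} :
    g ∈ stab₂ K W Y φ ↔ g ∈ K ∧ (∀ x ∈ W, g.1.1 x ∈ W) ∧ ∀ y ∈ Y, φ g y ∈ Y := Iff.rfl

theorem fix₀_smul {v : V} {hv : H.h v v = 0} {a : F} (hav : H.h (a • v) (a • v) = 0) :
    fix₀ H φ hv X ≤ fix₀ H φ hav X := fun x hx => by
  rw [mem_fix₀] at hx ⊢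
  exact ⟨hx.1, fun c => by rw [root_smul H hv a hav c]; exact hx.2 _⟩

/-- Some root subgroup has fixed points. -/
theorem Local.exists_fix₀_ne_bot (L : Local H φ W K X) (hne : X ≠ ⊥) (h4 : 4 ≤ Module.finrank F W) :
    ∃ r, r ∈ W ∧ r ≠ 0 ∧ ∃ hr : H.h r r = 0, fix₀ H φ hr X ≠ ⊥ := by
  classical
  haveI := Fintype.ofFinite F
  haveI := Fintype.ofFinite (skew H)
  obtain ⟨v', hv'0, hv'⟩ := (H.restrict W L.nondeg).exists_isotropic_of_two_le (by omega)
  obtain ⟨u', hu', -⟩ := (H.restrict W L.nondeg).exists_hyperbolic hv'0 hv'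
  set v : V := (v' : V)
  set u : V := (u' : V)
  have hv : H.h v v = 0 := hv'
  have hvu : H.h v u = 1 := hu'
  have hd : Module.finrank F ↥(W ⊓ H.orth (Submodule.span F ({v, u} : Set V))) + 2 =
      Module.finrank F W := (orth_inter_pair L.nondeg v'.2 u'.2 hv hvu).2
  obtain ⟨w, hw, hw0, hww⟩ := H.exists_isotropic_mem _ (show 2 ≤ Module.finrank F
    ↥(W ⊓ H.orth (Submodule.span F ({v, u} : Set V))) by omega)
  have hwW : w ∈ W := hw.1
  have hwv : H.h w v = 0 := hw.2 v (Submodule.subset_span (by simp))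
  have hwu : H.h w u = 0 := hw.2 u (Submodule.subset_span (by simp))
  let f : (skew H × skew H) × F → H.SIsom := fun a =>
    root H hv a.1.1 * root H hww a.1.2 * H.sR hv hww hwv a.2
  have hf : ∀ a b, f (a + b) = f a * f b := fun a b => H.sisom_ext fun x => by
    simp only [f, H.smul_mul_apply, root_apply, H.sR_apply, H.add_left, H.sub_left, H.smul_left, hv, hww,
      hwv, H.eq_zero_symm hwv, Prod.fst_add, Prod.snd_add, AddSubgroup.coe_add, map_add]
    module
  have hfK : ∀ a, f a ∈ K := fun a => mul_mem (mul_mem (L.root_mem v'.2 hv _) (L.root_mem hwW hww _))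
    (L.full _ fun x hx => by rw [H.sR_apply, hx v v'.2, hx w hwW]; module)
  obtain ⟨χ, hχ⟩ := exists_eig φ hf X (fun a => L.invX _ (hfK a)) hne
  obtain ⟨x, hx, hx0⟩ := Submodule.exists_mem_ne_zero_of_ne_bot hχ
  obtain ⟨hxX, hxe⟩ := Submodule.mem_inf.mp hx
  rw [mem_eig] at hxe
  let χ₁ : AddChar (skew H) ℂ :=
    χ.compAddMonoidHom ((AddMonoidHom.inl _ _).comp (AddMonoidHom.inl _ _))
  let χ₂ : AddChar (skew H) ℂ :=
    χ.compAddMonoidHom ((AddMonoidHom.inl _ _).comp (AddMonoidHom.inr _ _))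
  let χ₃ : AddChar F ℂ := χ.compAddMonoidHom (AddMonoidHom.inr _ _)
  have hsplit : ∀ c c' l, χ ((c, c'), l) = χ₁ c * χ₂ c' * χ₃ l := fun c c' l => by
    simp only [χ₁, χ₂, χ₃, AddChar.compAddMonoidHom_apply, AddMonoidHom.comp_apply,
      AddMonoidHom.inl_apply, AddMonoidHom.inr_apply, ← AddChar.map_add_eq_mul, Prod.mk_add_mk,
      Prod.mk_zero_zero, add_zero, zero_add, Prod.snd_zero, Prod.fst_zero]
  obtain ⟨χ₀, hχ₀⟩ : ∃ χ₀ : AddChar (skew H) ℂ, χ₀ ≠ 1 := by
    by_contra h
    push Not at h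
    have h1 : Fintype.card (AddChar (skew H) ℂ) ≤ 1 :=
      Fintype.card_le_one_iff.mpr fun a b => (h a).trans (h b).symm
    rw [AddChar.card_eq, ← Nat.card_eq_fintype_card, card_skew] at h1
    have := H.conj.two_le_card_fixed
    change H.q ≤ 1 at h1
    change 2 ≤ H.q at this
    omega
  obtain ⟨t₁, ht₁, e₁⟩ := exists_scale H hχ₀ χ₁
  obtain ⟨t₂, ht₂, e₂⟩ := exists_scale H hχ₀ χ₂
  obtain ⟨k, hk⟩ := exists_mul H hχ₀ χ₃
  rcases eq_or_ne t₁ 0 with rfl | h1
  · refine ⟨v, v'.2, fun e => hv'0 (Subtype.ext e), hv, (Submodule.ne_bot_iff _).mpr ⟨x, ?_, hx0⟩⟩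
    rw [mem_fix₀]
    refine ⟨hxX, fun c => ?_⟩
    have := hxe ((c, 0), 0)
    rw [hsplit, AddChar.map_zero_eq_one, AddChar.map_zero_eq_one, mul_one, mul_one, e₁,
      AddChar.compAddMonoidHom_apply, show scale H ht₁ c = 0 from Subtype.ext (zero_mul _),
      AddChar.map_zero_eq_one, one_smul] at this
    have e : f ((c, 0), 0) = root H hv c := H.sisom_ext fun y => by
      simp [f, H.smul_mul_apply, root_apply, H.sR_apply]
    rwa [e] at this
  · obtain ⟨a', ha'⟩ := H.conj.norm_surjective (a := (k * H.σ k / t₁ - t₂) / t₁) (by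
      rw [map_div₀, map_sub, map_div₀, map_mul, H.conj.invol, ht₁, ht₂, mul_comm (H.σ k)])
    set a := a' - H.σ k / t₁ with ha
    have hs : t₁ * (a * H.σ a) + t₂ + (k * a + H.σ (k * a)) = 0 := by
      rw [ha, map_mul, map_sub, map_div₀, H.conj.invol, ht₁]
      have h2 : t₁ * (a' * H.σ a') = k * H.σ k / t₁ - t₂ := by rw [ha', mul_div_cancel₀ _ h1]
      field_simp
      field_simp at h2
      linear_combination h2
    set r := a • v + w with hr
    have hrr : H.h r r = 0 := by
      simp [hr, H.add_left, H.add_right, H.smul_left, H.smul_right, hv, hww, hwv, H.eq_zero_symm hwv]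
    refine ⟨r, W.add_mem (W.smul_mem _ v'.2) hwW, fun e => hw0 ?_, hrr,
      (Submodule.ne_bot_iff _).mpr ⟨x, ?_, hx0⟩⟩
    · have h2 : a = 0 := by
        have := congrArg (fun y => H.h y u) e
        simpa [hr, H.add_left, H.smul_left, hvu, hwu, H.zero_left] using this
      rwa [hr, h2, zero_smul, zero_add] at e
    · rw [mem_fix₀]
      refine ⟨hxX, fun c => ?_⟩
      have e : root H hrr c = f ((scale H (H.conj.norm_mem a) c, c), (c : F) * a) :=
        H.sT_split hv hww hwv a hrr c.2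
      rw [e, hxe, hsplit, e₁, e₂, hk, AddChar.compAddMonoidHom_apply, AddChar.compAddMonoidHom_apply,
        ← AddChar.map_add_eq_mul, ← AddChar.map_add_eq_mul]
      have e0 : scale H ht₁ (scale H (H.conj.norm_mem a) c) + scale H ht₂ c +
          toSkew H (k * ((c : F) * a)) = 0 := by
        refine Subtype.ext ?_
        simp only [AddSubgroup.coe_add, scale_coe, toSkew_coe, map_mul,
          eq_neg_of_add_eq_zero_right (skew_spec H c), AddSubgroup.coe_zero]
        rw [map_mul] at hs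
        linear_combination (c : F) * hs
      rw [e0, AddChar.map_zero_eq_one, one_smul]

/-- Two orthogonal isotropic vectors whose root subgroups have different fixed points. -/
theorem Local.exists_pair (L : Local H φ W K X) (hne : X ≠ ⊥) (hnf : NoFix H φ W X)
    (h4 : 4 ≤ Module.finrank F W) :
    ∃ v v', v ∈ W ∧ v' ∈ W ∧ ∃ (hv : H.h v v = 0) (hv' : H.h v' v' = 0), H.h v v' = 0 ∧
      v ∉ Submodule.span F ({v'} : Set V) ∧ ¬ fix₀ H φ hv X ≤ fix₀ H φ hv' X := by
  by_contra hc
  push Not at hc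
  obtain ⟨r, hrW, hr0, hr, hrne⟩ := L.exists_fix₀_ne_bot hne h4
  refine hrne ((Submodule.eq_bot_iff _).mpr fun x hx => hnf x (mem_fix₀ H φ |>.mp hx).1 ?_)
  intro s hsW hs
  rcases eq_or_ne s 0 with rfl | hs0
  · intro c; rw [root_zero_vec, map_one, Module.End.one_apply]
  suffices h : fix₀ H φ hr X ≤ fix₀ H φ hs X from fun c => ((mem_fix₀ H φ).mp (h hx)).2 c
  have dep : ∀ a b : V, ∀ (ha : H.h a a = 0) (hb : H.h b b = 0), b ≠ 0 → b ∈ Submodule.span F ({a} : Set V) →
      fix₀ H φ ha X ≤ fix₀ H φ hb X := by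
    intro a b ha hb hb0 hmem
    obtain ⟨c, rfl⟩ := Submodule.mem_span_singleton.mp hmem
    exact fix₀_smul hb
  have flip : ∀ a b : V, b ∉ Submodule.span F ({a} : Set V) → a ≠ 0 →
      a ∉ Submodule.span F ({b} : Set V) := by
    intro a b hb ha hmem
    obtain ⟨c, rfl⟩ := Submodule.mem_span_singleton.mp hmem
    have hc0 : c ≠ 0 := fun e => ha (by rw [e, zero_smul])
    exact hb (Submodule.mem_span_singleton.mpr ⟨c⁻¹, by rw [smul_smul, inv_mul_cancel₀ hc0, one_smul]⟩)
  by_cases hrs : H.h r s = 0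
  · by_cases hdep : s ∈ Submodule.span F ({r} : Set V)
    · exact dep r s hr hs hs0 hdep
    · exact hc r s hrW hsW hr hs hrs (flip r s hdep hr0)
  · have hN : H.NondegOn W := L.nondeg
    set H' := H.restrict W hN
    obtain ⟨z, hz, hz0, hzz⟩ := H'.exists_isotropic_mem
      (H'.orth (Submodule.span F ({⟨r, hrW⟩, ⟨s, hsW⟩} : Set W))) (by
        have h2 : Module.finrank F (Submodule.span F ({⟨r, hrW⟩, ⟨s, hsW⟩} : Set W)) ≤ 2 := by
          classical
          have h1 : (({⟨r, hrW⟩, ⟨s, hsW⟩} : Finset W) : Set W) = {⟨r, hrW⟩, ⟨s, hsW⟩} := by simp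
          rw [← h1]
          exact (finrank_span_finset_le_card _).trans Finset.card_le_two
        rw [H'.finrank_orth]
        omega)
    have hzr : H.h (z : V) r = 0 := hz ⟨r, hrW⟩ (Submodule.subset_span (Set.mem_insert _ _))
    have hzs : H.h (z : V) s = 0 :=
      hz ⟨s, hsW⟩ (Submodule.subset_span (Set.mem_insert_of_mem _ (Set.mem_singleton _)))
    have hz0' : (z : V) ≠ 0 := fun e => hz0 (Subtype.ext e)
    have n1 : r ∉ Submodule.span F ({(z : V)} : Set V) := fun hmem => by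
      obtain ⟨c, hc⟩ := Submodule.mem_span_singleton.mp hmem
      exact hrs (by rw [← hc, H.smul_left, hzs, mul_zero])
    have n2 : (z : V) ∉ Submodule.span F ({s} : Set V) := fun hmem => by
      obtain ⟨c, hc⟩ := Submodule.mem_span_singleton.mp hmem
      have hc0 : c ≠ 0 := fun e => hz0' (by rw [← hc, e, zero_smul])
      have : H.h r (z : V) = 0 := H.eq_zero_symm hzr
      rw [← hc, H.smul_right] at this
      exact hrs ((mul_eq_zero.mp this).resolve_left ((map_ne_zero _).mpr hc0))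
    exact (hc r z hrW z.2 hr hzz (H.eq_zero_symm hzr) n1).trans
      (hc z s z.2 hsW hzz hs hzs n2)

/-- The lower bound. -/
theorem Local.bound : ∀ (m : ℕ) {W : Submodule F V} {K : Subgroup H.SIsom} {X : Submodule ℂ M},
    Local H φ W K X → Module.finrank F W = m → 2 ≤ m →
    (∃ v, v ∈ W ∧ ∃ (hv : H.h v v = 0) (c : skew H), ∃ x ∈ X, φ (root H hv c) x ≠ x) →
    bnd H.q m ≤ Module.finrank ℂ X := by
  intro m
  induction m using Nat.strong_induction_on with
  | h m IH =>
    intro W K X₁ L₁ hm h2 hmove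
    obtain ⟨v₁, hv₁W, hv₁, c₁, x₁, hx₁, hmv⟩ := hmove
    obtain ⟨X, hXle, hne, L, hnf⟩ := L₁.exists_noFix hv₁W hv₁ hx₁ hmv
    refine le_trans ?_ (Submodule.finrank_mono hXle)
    obtain ⟨v', hv'0, hv'⟩ := (H.restrict W L.nondeg).exists_isotropic_of_two_le (by omega)
    obtain ⟨u', hu', huu'⟩ := (H.restrict W L.nondeg).exists_hyperbolic hv'0 hv'
    rcases lt_or_ge m 4 with h4 | h4
    · have := L.step_bound hne hnf v'.2 u'.2 hv' huu' hu'
      rw [hm] at this
      interval_cases m <;> norm_num [bnd] at this ⊢ <;> omega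
    · obtain ⟨v, w, hvW, hwW, hv, hw, hvw, hind, hnle⟩ := L.exists_pair hne hnf (by omega)
      obtain ⟨u₀, hvu, huu, hwu⟩ := (H.restrict W L.nondeg).exists_pair_orth (p := ⟨v, hvW⟩)
        (q := ⟨w, hwW⟩) hv hvw (fun hmem => hind (by
          obtain ⟨c, hc⟩ := Submodule.mem_span_singleton.mp hmem
          exact Submodule.mem_span_singleton.mpr ⟨c, congrArg Subtype.val hc⟩))
      have hvu' : H.h v (u₀ : V) = 1 := hvu
      obtain ⟨hW'n, hW'd⟩ := orth_inter_pair L.nondeg hvW u₀.2 hv hvu'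
      set W' := W ⊓ H.orth (Submodule.span F ({v, (u₀ : V)} : Set V)) with hW'
      set X' := fix₀ H φ hv X with hX'
      have hfixX : ∀ g ∈ K, ∀ a : F, g.1.1 v = a • v → a ≠ 0 → ∀ y ∈ X', φ g y ∈ X' := by
        intro g hg a hga ha y hy
        rw [hX', mem_fix₀] at hy ⊢
        refine ⟨L.invX g hg y hy.1, fun c => ?_⟩
        have hs : H.σ (a * H.σ a)⁻¹ = (a * H.σ a)⁻¹ := by rw [map_inv₀, H.conj.norm_mem]
        have hN : a * H.σ a ≠ 0 := mul_ne_zero ha ((map_ne_zero _).mpr ha)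
        have e : root H hv c = g * root H hv (scale H hs c) * g⁻¹ := by
          rw [root_conj H g hv (w := a • v) (by rw [H.smul_left, H.smul_right, hv, mul_zero, mul_zero]) hga,
            root_smul H hv a]
          congr 1
          refine Subtype.ext ?_
          rw [scale_coe, scale_coe, ← mul_assoc, mul_inv_cancel₀ hN, one_mul]
        rw [e, phi_conj_apply, hy.2]
      have hle : H.orth W ≤ H.orth W' := fun x hx y hy => hx y hy.1
      have hvo : v ∈ H.orth W' := fun y hy => H.eq_zero_symm (hy.2 v (Submodule.subset_span (by simp)))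
      have L' : Local H φ W' (stab₂ K W' X' φ) X' := by
        refine ⟨hW'n, fun g hg => (mem_stab₂.mp hg).2.1, fun g hg => ?_,
          fun g hg => (mem_stab₂.mp hg).2.2, ?_⟩
        · have hgK : g ∈ K := L.full g fun x hx => hg x (hle hx)
          refine mem_stab₂.mpr ⟨hgK, fun x hx => ?_,
            hfixX g hgK 1 (by rw [one_smul]; exact hg v hvo) one_ne_zero⟩
          rw [← H.orth_orth W']
          intro y hy
          conv_lhs => rw [← hg y hy]
          rw [H.map_form]
          exact H.eq_zero_symm (hy x hx)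
        · intro p r hpW hrW hpp hrr hpr a ha
          obtain ⟨T₁, d₁, T₁p, T₁span, T₁fix⟩ := exists_torus H hpp hrr hpr ha
          obtain ⟨T₂, d₂, T₂v, T₂span, T₂fix⟩ := exists_torus H hv huu hvu' (inv_ne_zero ha)
          have hdet : T₁ * T₂ ∈ H.SIsom := by
            rw [HermSpace.SIsom, MonoidHom.mem_ker]
            apply Units.ext
            rw [map_mul, Units.val_mul, d₁, d₂, map_inv₀, inv_inv, Units.val_one]
            have : H.σ a ≠ 0 := (map_ne_zero _).mpr ha
            field_simp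
          let g : H.SIsom := ⟨T₁ * T₂, hdet⟩
          have hperp : ∀ x ∈ W', H.h x v = 0 ∧ H.h x (u₀ : V) = 0 := fun x hx =>
            ⟨hx.2 v (Submodule.subset_span (by simp)), hx.2 _ (Submodule.subset_span (by simp))⟩
          have hgK : g ∈ K := L.full g fun x hx => by
            rw [show g.1 = T₁ * T₂ from rfl, H.mul_apply', T₂fix x (hx v hvW) (hx _ u₀.2),
              T₁fix x (hx p hpW.1) (hx r hrW.1)]
          have hgv : g.1.1 v = a⁻¹ • v := by
            rw [show g.1 = T₁ * T₂ from rfl, H.mul_apply', T₂v, map_smul,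
              T₁fix v (H.eq_zero_symm (hperp p hpW).1) (H.eq_zero_symm (hperp r hrW).1)]
          have hgW : ∀ x ∈ W', g.1.1 x ∈ W' := fun x hx => by
            rw [show g.1 = T₁ * T₂ from rfl, H.mul_apply', T₂fix x (hperp x hx).1 (hperp x hx).2]
            obtain ⟨s, t, e⟩ := T₁span x
            rw [e]
            exact W'.add_mem (W'.add_mem hx (W'.smul_mem _ hpW)) (W'.smul_mem _ hrW)
          refine ⟨g, mem_stab₂.mpr ⟨hgK, hgW, hfixX g hgK _ hgv (inv_ne_zero ha)⟩, ?_⟩
          rw [show g.1 = T₁ * T₂ from rfl, H.mul_apply', T₂fix p (hperp p hpW).1 (hperp p hpW).2, T₁p]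
      obtain ⟨y, hy, hyn⟩ := SetLike.not_le_iff_exists.mp hnle
      have hmove' : ∃ v, v ∈ W' ∧ ∃ (hv : H.h v v = 0) (c : skew H), ∃ x ∈ X', φ (root H hv c) x ≠ x := by
        have hwW' : w ∈ W' := ⟨hwW, by
          rw [SetLike.mem_coe, H.mem_orth_span]
          rintro z (rfl | rfl)
          · exact H.eq_zero_symm hvw
          · exact hwu⟩
        rw [mem_fix₀] at hyn
        push Not at hyn
        obtain ⟨c, hc⟩ := hyn ((mem_fix₀ H φ).mp hy).1
        exact ⟨w, hwW', hw, c, y, hy, hc⟩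
      have hd' : Module.finrank F W' = m - 2 := by omega
      have hb := IH (m - 2) (by omega) L' hd' (by omega) hmove'
      have hs := L.step_bound hne hnf hvW u₀.2 hv huu hvu'
      rw [hm] at hs
      rw [← hX'] at hs
      obtain ⟨j, rfl⟩ : ∃ j, m = j + 2 := ⟨m - 2, by omega⟩
      rw [Nat.add_sub_cancel] at hs hb
      simp only [bnd]
      omega

theorem top_local (hd : 3 ≤ Module.finrank F V) : Local H φ ⊤ ⊤ ⊤ where
  nondeg x _ h := H.nondeg x fun y => h y trivial
  invW _ _ _ _ := trivial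
  full _ _ := Subgroup.mem_top _
  invX _ _ _ _ := trivial
  torus v u _ _ hv hu hvu a ha := by
    obtain ⟨T, -, hTv, -, -⟩ := exists_torus H hv hu hvu ha
    obtain ⟨w, hww, hwv, -⟩ := H.exists_norm_one_orth_pair hd hv hvu
    obtain ⟨z, hz⟩ := H.exists_SIsom_correct T hww
    refine ⟨⟨H.qrefl hww z * T, hz⟩, Subgroup.mem_top _, ?_⟩
    rw [H.mul_apply', hTv, map_smul, H.qrefl_orth hww z (H.eq_zero_symm hwv)]

/-- The lower bound for an irreducible representation. -/
theorem min_degree (hd : 4 ≤ Module.finrank F V ∨ (Module.finrank F V = 3 ∧ 3 ≤ H.q))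
    (hmove : ∃ g : H.SIsom, φ g ≠ 1) : bnd H.q (Module.finrank F V) ≤ Module.finrank ℂ M := by
  have hV : Module.finrank F (⊤ : Submodule F V) = Module.finrank F V := finrank_top F V
  have key : ∃ v, v ∈ (⊤ : Submodule F V) ∧ ∃ (hv : H.h v v = 0) (c : skew H),
      ∃ x ∈ (⊤ : Submodule ℂ M), φ (root H hv c) x ≠ x := by
    by_contra hc
    push Not at hc
    obtain ⟨g, hg⟩ := hmove
    have hle : H.transvGroup ≤ Subgroup.map H.SIsom.subtype φ.ker := by
      rw [HermSpace.transvGroup, Subgroup.closure_le]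
      rintro _ ⟨v, hv, c, hcs, rfl⟩
      exact ⟨root H hv ⟨c, hcs⟩, MonoidHom.mem_ker.mpr
        (LinearMap.ext fun x => hc v trivial hv ⟨c, hcs⟩ x trivial), rfl⟩
    obtain ⟨k, hk, hke⟩ := hle ((H.transvGroup_eq_SIsom hd).ge g.2)
    rw [show k = g from Subtype.ext hke] at hk
    exact hg hk
  have := Local.bound _ (top_local (H := H) (φ := φ) (by omega)) rfl (by omega) key
  rwa [hV, finrank_top] at this

/-- An irreducible representation of degree at least two is non-trivial. -/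
theorem exists_ne_one {G : Type*} [Group G] {k : ℕ} {ρ : Representation ℂ G (Fin k → ℂ)}
    (hirr : ρ.IsIrreducible) (hk : 2 ≤ k) : ∃ g, ρ g ≠ 1 := by
  by_contra h
  push Not at h
  let x : Fin k → ℂ := Pi.single ⟨0, by omega⟩ 1
  let S : Subrepresentation ρ :=
    ⟨ℂ ∙ x, fun g v hv => by rw [h g, Module.End.one_apply]; exact hv⟩
  have h1 : Module.finrank ℂ S.toSubmodule = 1 := finrank_span_singleton (by simp [x])
  have : IsSimpleOrder (Subrepresentation ρ) := hirr
  rcases IsSimpleOrder.eq_bot_or_eq_top S with h | h <;>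
    rw [show S.toSubmodule = _ from congrArg Subrepresentation.toSubmodule h] at h1
  · rw [show ((⊥ : Subrepresentation ρ).toSubmodule) = ⊥ from rfl, finrank_bot] at h1
    exact zero_ne_one h1
  · rw [show ((⊤ : Subrepresentation ρ).toSubmodule) = ⊤ from rfl, finrank_top, Module.finrank_fin_fun] at h1
    omega

theorem su_min_degree {F : Type*} [Field F] [Fintype F] [DecidableEq F] {n q k : ℕ} (hn : 3 ≤ n)
    (hF : Fintype.card F = q ^ 2) (hex : n = 3 → q ≠ 2)
    (ρ : Representation ℂ (Cfsg.SU n F q) (Fin k → ℂ)) (hirr : ρ.IsIrreducible) (hk : 2 ≤ k) :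
    bnd q n ≤ k := by
  obtain ⟨g, hg⟩ := exists_ne_one hirr hk
  let ψ : (stdHerm n hF).SIsom →* Module.End ℂ (Fin k → ℂ) :=
    MonoidHom.comp ρ (suEquiv n hF).toMonoidHom
  have hq : (stdHerm n hF).q = q := stdHerm_q hF
  have h2 : 2 ≤ q := hq ▸ (stdHerm n hF).conj.two_le_card_fixed
  have := min_degree (H := stdHerm n hF) (φ := ψ) (by
      rw [Module.finrank_fin_fun, hq]
      rcases Nat.lt_or_ge n 4 with h | h
      · exact Or.inr ⟨by omega, by have := hex (by omega); omega⟩
      · exact Or.inl h)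
    ⟨(suEquiv n hF).symm g, by simpa [ψ] using hg⟩
  rwa [Module.finrank_fin_fun, Module.finrank_fin_fun, hq] at this

end Cfsg.Lib.SUMinDeg
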